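import Groth.Agent.SymTr12.Basic

/-! The trace of symmetric tensor powers and the inverse of `det (1 - u t)`. -/

set_option autoImplicit false

universe u

open Polynomial TensorProduct PiTensorProduct Module

namespace Groth.Agent.SymTr12

/-- Symmetric tensors. -/
abbrev symT (A M : Type*) [CommRing A] [AddCommGroup M] [Module A M] (n : ℕ) :
    Submodule A (⨂[A] _i : Fin n, M) :=
  ⨅ σ : Equiv.Perm (Fin n),
    LinearMap.eqLocus ((PiTensorProduct.reindex A (fun _ : Fin n => M) σ).toLinearMap) LinearMap.id

section

variable {A M : Type u} [CommRing A] [AddCommGroup M] [Module A M] {n : ℕ}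

lemma mem_symT {x : ⨂[A] _i : Fin n, M} :
    x ∈ symT A M n ↔ ∀ σ : Equiv.Perm (Fin n), PiTensorProduct.reindex A (fun _ : Fin n => M) σ x = x := by
  simp [symT]

lemma map_mem_symT (u : M →ₗ[A] M) {x : ⨂[A] _i : Fin n, M} (hx : x ∈ symT A M n) :
    PiTensorProduct.map (fun _ => u) x ∈ symT A M n := by
  rw [mem_symT] at hx ⊢
  intro σ
  have h1 := PiTensorProduct.map_reindex (R := A) (fun _ : Fin n => u) σ x
  rw [hx σ] at h1
  exact h1.symm

variable {ι : Type*} [Fintype ι] [DecidableEq ι] (b : Basis ι A M)

lemma repr_reindex (σ : Equiv.Perm (Fin n)) (x : ⨂[A] _i : Fin n, M) (f : Fin n → ι) :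
    (Basis.piTensorProduct fun _ => b).repr (PiTensorProduct.reindex A (fun _ : Fin n => M) σ x) f =
      (Basis.piTensorProduct fun _ => b).repr x (f ∘ σ) := by
  induction x using PiTensorProduct.induction_on with
  | smul_tprod r m =>
    rw [map_smul, reindex_tprod, map_smul, map_smul, Finsupp.smul_apply, Finsupp.smul_apply,
      Basis.piTensorProduct_repr_tprod_apply, Basis.piTensorProduct_repr_tprod_apply]
    congr 1
    rw [← Equiv.prod_comp σ]
    exact Finset.prod_congr rfl fun i _ => by
      rw [Equiv.symm_apply_apply]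
      rfl
  | add x y hx hy =>
    simp only [map_add, Finsupp.add_apply, hx, hy]

lemma repr_map (u : M →ₗ[A] M) (f g : Fin n → ι) :
    (Basis.piTensorProduct fun _ => b).repr
        (PiTensorProduct.map (fun _ => u) ((Basis.piTensorProduct fun _ => b) f)) g =
      ∏ k, LinearMap.toMatrix b b u (g k) (f k) := by
  rw [Basis.piTensorProduct_apply, PiTensorProduct.map_tprod,
    Basis.piTensorProduct_repr_tprod_apply]
  simp [LinearMap.toMatrix_apply]

/-- Symmetric tensors are functions on multisets. -/
noncomputable def symEquiv : symT A M n ≃ₗ[A] (Sym ι n → A) :=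
  LinearEquiv.ofBijective
    (LinearMap.pi fun q => (Finsupp.lapply (rep q)).comp
      ((Basis.piTensorProduct fun _ => b).repr.toLinearMap.comp (symT A M n).subtype))
    (by
      have inv : ∀ (x : symT A M n) (f : Fin n → ι),
          (Basis.piTensorProduct fun _ => b).repr x.1 f =
            (Basis.piTensorProduct fun _ => b).repr x.1 (rep (sy f)) := fun x f => by
        obtain ⟨σ, hσ⟩ := exists_perm f (rep (sy f)) (sy_rep _).symm
        have h := repr_reindex b σ x.1 (rep (sy f))
        rw [mem_symT.mp x.2 σ, hσ] at h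
        exact h.symm
      refine ⟨fun x y h => Subtype.ext ((Basis.piTensorProduct fun _ => b).repr.injective
        (Finsupp.ext fun f => ?_)), fun c => ?_⟩
      · rw [inv x f, inv y f]
        exact congrFun h (sy f)
      · refine ⟨⟨∑ f, c (sy f) • (Basis.piTensorProduct fun _ => b) f, mem_symT.mpr fun σ => ?_⟩,
          funext fun q => ?_⟩
        · apply (Basis.piTensorProduct fun _ => b).repr.injective
          ext f
          rw [repr_reindex, Basis.repr_sum_self, sy_comp]
        · show (Basis.piTensorProduct fun _ => b).repr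
            (∑ f, c (sy f) • (Basis.piTensorProduct fun _ => b) f) (rep q) = c q
          rw [Basis.repr_sum_self, sy_rep])

lemma symEquiv_symm_single (q : Sym ι n) :
    ((symEquiv b).symm (Pi.single q 1) : ⨂[A] _i : Fin n, M) =
      ∑ f ∈ Finset.univ.filter (fun f => sy f = q), (Basis.piTensorProduct fun _ => b) f := by
  let s : symT A M n := ⟨∑ f : Fin n → ι, (Pi.single q (1 : A) : Sym ι n → A) (sy f) •
      (Basis.piTensorProduct fun _ => b) f, mem_symT.mpr fun σ => by
    apply (Basis.piTensorProduct fun _ => b).repr.injective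
    ext f
    rw [repr_reindex, Basis.repr_sum_self, sy_comp]⟩
  have h : (symEquiv b).symm (Pi.single q 1) = s := by
    rw [LinearEquiv.symm_apply_eq]
    funext q'
    show _ = (Basis.piTensorProduct fun _ => b).repr s.1 (rep q')
    rw [Basis.repr_sum_self, sy_rep]
  rw [h]
  simp only [s, Pi.single_apply, ite_smul, one_smul, zero_smul, Finset.sum_filter]

theorem trace_eq (u : M →ₗ[A] M) (γ : symT A M n →ₗ[A] symT A M n)
    (hγ : ∀ x : symT A M n, (γ x : ⨂[A] _i : Fin n, M) = PiTensorProduct.map (fun _ => u) x.1) :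
    LinearMap.trace A _ γ = T n (LinearMap.toMatrix b b u) := by
  let B : Basis (Sym ι n) A (symT A M n) := Basis.ofEquivFun (symEquiv b)
  rw [LinearMap.trace_eq_matrix_trace A B, Matrix.trace, T, ← Finset.sum_fiberwise Finset.univ sy]
  refine Finset.sum_congr rfl fun q _ => ?_
  rw [Matrix.diag_apply, LinearMap.toMatrix_apply]
  show (symEquiv b) (γ (B q)) q = _
  show (Basis.piTensorProduct fun _ => b).repr (γ (B q)).1 (rep q) = _
  rw [hγ, show B q = (symEquiv b).symm (Pi.single q 1) from
      (Basis.coe_ofEquivFun (symEquiv b)) ▸ rfl,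
    symEquiv_symm_single, map_sum, map_sum, Finsupp.finset_sum_apply]
  refine Finset.sum_congr rfl fun f hf => ?_
  rw [repr_map, (Finset.mem_filter.mp hf).2]

omit [DecidableEq ι] in
lemma det_one_sub_smul {R P : Type*} [CommRing R] [AddCommGroup P] [Module R P] [DecidableEq ι]
    (c : Basis ι R P) (r : R) (F : P →ₗ[R] P) :
    LinearMap.det (LinearMap.id - r • F) = (1 - r • LinearMap.toMatrix c c F).det := by
  rw [← LinearMap.det_toMatrix c, map_sub, map_smul, LinearMap.toMatrix_id]

theorem detOneSub_eq (u : M →ₗ[A] M) :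
    SGA4h.detOneSub (ModuleCat.of A M) (ModuleCat.ofHom u) =
      (1 - (X : A[X]) • (LinearMap.toMatrix b b u).map Polynomial.C).det := by
  unfold SGA4h.detOneSub
  rw [det_one_sub_smul (b.baseChange A[X])]
  congr 3
  ext i j
  simp [LinearMap.toMatrix_apply, Polynomial.smul_eq_C_mul]

end

lemma exists_triangular (K : Type u) [Field K] [IsAlgClosed K] : ∀ (d : ℕ) (V : Type u)
    [AddCommGroup V] [Module K V] [FiniteDimensional K V], finrank K V = d →
    ∀ f : V →ₗ[K] V, ∃ b : Basis (Fin d) K V, ∀ i j, j < i → LinearMap.toMatrix b b f i j = 0 := by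
  intro d
  induction d with
  | zero => exact fun V _ _ _ h f => ⟨Module.finBasisOfFinrankEq K V h, fun i => i.elim0⟩
  | succ d ih =>
    intro V _ _ _ h f
    haveI : Nontrivial V := Module.nontrivial_of_finrank_eq_succ h
    obtain ⟨μ, hμ⟩ := Module.End.exists_eigenvalue f
    obtain ⟨v, hv⟩ := hμ.exists_hasEigenvector
    obtain ⟨N, hN⟩ := Submodule.exists_isCompl (K ∙ v)
    have hd : finrank K N = d := by
      have := Submodule.finrank_add_eq_of_isCompl hN
      rw [finrank_span_singleton hv.2, h] at this
      omega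
    let g : N →ₗ[K] N := (N.projectionOnto _ hN.symm) ∘ₗ f ∘ₗ N.subtype
    obtain ⟨bN, hbN⟩ := ih N hd g
    have hli : ∀ (c : K), ∀ x ∈ N, c • v + x = 0 → c = 0 := fun c x hx h0 => by
      have hm : c • v ∈ (K ∙ v) ⊓ N :=
        ⟨Submodule.smul_mem _ c (Submodule.mem_span_singleton_self v),
          (eq_neg_of_add_eq_zero_left h0) ▸ N.neg_mem hx⟩
      rw [hN.inf_eq_bot, Submodule.mem_bot] at hm
      exact (smul_eq_zero.mp hm).resolve_right hv.2
    have hsp : ∀ z : V, ∃ c : K, z + c • v ∈ N := fun z => by
      obtain ⟨⟨a, ha⟩, ⟨x, hx⟩, hz⟩ : ∃ (a : (K ∙ v)) (x : N), (a : V) + x = z := by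
        obtain ⟨a, ha, x, hx, hz⟩ := Submodule.mem_sup.mp (hN.sup_eq_top ▸ Submodule.mem_top (x := z))
        exact ⟨⟨a, ha⟩, ⟨x, hx⟩, hz⟩
      obtain ⟨c, rfl⟩ := Submodule.mem_span_singleton.mp ha
      refine ⟨-c, ?_⟩
      rw [← hz]
      simpa using hx
    let b : Basis (Fin (d + 1)) K V := Basis.mkFinCons v bN hli hsp
    have hb0 : b 0 = v := by simp [b, Basis.coe_mkFinCons]
    have hbs : ∀ i : Fin d, b i.succ = bN i := fun i => by simp [b, Basis.coe_mkFinCons]
    have hrs : ∀ (z : V) (i : Fin d), b.repr z i.succ = bN.repr (N.projectionOnto _ hN.symm z) i := by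
      intro z i
      have : (Finsupp.lapply i.succ).comp b.repr.toLinearMap =
          (Finsupp.lapply i).comp (bN.repr.toLinearMap.comp (N.projectionOnto _ hN.symm)) := by
        refine b.ext fun k => ?_
        refine Fin.cases ?_ (fun k => ?_) k
        · simp only [LinearMap.comp_apply, LinearEquiv.coe_coe, Finsupp.lapply_apply]
          rw [hb0, Submodule.projectionOnto_apply_of_mem_right hN.symm (Submodule.mem_span_singleton_self v),
            map_zero, ← hb0, Basis.repr_self]
          simp [Finsupp.single_apply]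
        · simp only [LinearMap.comp_apply, LinearEquiv.coe_coe, Finsupp.lapply_apply]
          rw [hbs, Submodule.projectionOnto_apply_left, ← hbs k, Basis.repr_self, Basis.repr_self]
          simp [Finsupp.single_apply]
      exact LinearMap.congr_fun this z
    refine ⟨b, fun i j hij => ?_⟩
    obtain ⟨i, rfl⟩ := Fin.exists_succ_eq.mpr (Fin.ne_zero_of_lt hij)
    rw [LinearMap.toMatrix_apply, hrs]
    refine Fin.cases ?_ (fun j hij => ?_) j hij
    · intro _
      rw [hb0, hv.apply_eq_smul, map_smul,
        Submodule.projectionOnto_apply_of_mem_right hN.symm (Submodule.mem_span_singleton_self v)]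
      simp
    · have := hbN i j (Fin.succ_lt_succ_iff.mp hij)
      rw [LinearMap.toMatrix_apply] at this
      rw [hbs]
      exact this

/-- The identity for matrices over an algebraically closed field. -/
theorem identity_field {K : Type u} [Field K] [IsAlgClosed K] {ι : Type u} [Fintype ι] [DecidableEq ι]
    (U : Matrix ι ι K) :
    ((1 - (X : K[X]) • U.map Polynomial.C).det : PowerSeries K) *
      PowerSeries.mk (fun n => T n U) = 1 := by
  let b := Pi.basisFun K ι
  let u := Matrix.toLin b b U
  obtain ⟨b', hb'⟩ := exists_triangular K _ (ι → K) rfl u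
  have hU : LinearMap.toMatrix b b u = U := LinearMap.toMatrix_toLin b b U
  have hT : ∀ n, T n U = P n (fun i => LinearMap.toMatrix b' b' u i i) := fun n => by
    let γ : symT K (ι → K) n →ₗ[K] symT K (ι → K) n :=
      (PiTensorProduct.map (fun _ => u)).restrict fun x hx => map_mem_symT u hx
    rw [← T_triangular _ hb', ← trace_eq b' u γ (fun _ => rfl), trace_eq b u γ (fun _ => rfl), hU]
  have hd : (1 - (X : K[X]) • U.map Polynomial.C).det =
      ∏ i, (1 - Polynomial.C (LinearMap.toMatrix b' b' u i i) * X) := by
    rw [← hU, ← detOneSub_eq b u, detOneSub_eq b' u, Matrix.det_of_upperTriangular]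
    · exact Finset.prod_congr rfl fun i _ => by simp [Polynomial.X_mul_C, smul_eq_mul]
    · intro i j hij
      have hne : i ≠ j := ne_of_gt hij
      simp [hne, hb' i j hij]
  simp only [hd, hT]
  exact series K _ _

/-- The identity for matrices over a commutative ring. -/
theorem identity {R : Type u} [CommRing R] {ι : Type u} [Fintype ι] [DecidableEq ι]
    (U : Matrix ι ι R) :
    ((1 - (X : R[X]) • U.map Polynomial.C).det : PowerSeries R) *
      PowerSeries.mk (fun n => T n U) = 1 := by
  have hnat : ∀ {S S' : Type u} [CommRing S] [CommRing S'] (φ : S →+* S') (V : Matrix ι ι S),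
      PowerSeries.map φ (((1 - (X : S[X]) • V.map Polynomial.C).det : PowerSeries S) *
        PowerSeries.mk (fun n => T n V)) =
      ((1 - (X : S'[X]) • (V.map φ).map Polynomial.C).det : PowerSeries S') *
        PowerSeries.mk (fun n => T n (V.map φ)) := by
    intro S S' _ _ φ V
    rw [map_mul, ← Polynomial.polynomial_map_coe, ← Polynomial.coe_mapRingHom, RingHom.map_det]
    congr 2
    · congr 1
      ext1 i j
      simp [Matrix.one_apply, apply_ite (Polynomial.map φ)]
    · ext n
      simp [T_map]
  let R₀ := MvPolynomial (ι × ι) (ULift.{u} ℤ)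
  let G : Matrix ι ι R₀ := fun i j => MvPolynomial.X (i, j)
  suffices h : ((1 - (X : R₀[X]) • G.map Polynomial.C).det : PowerSeries R₀) *
      PowerSeries.mk (fun n => T n G) = 1 by
    let φ : R₀ →+* R := MvPolynomial.eval₂Hom ((Int.castRingHom R).comp ULift.ringEquiv.toRingHom)
      (fun p => U p.1 p.2)
    have hG : G.map φ = U := by ext i j; exact MvPolynomial.eval₂Hom_X' _ _ _
    have := congrArg (PowerSeries.map φ) h
    rwa [hnat, hG, map_one] at this
  let K := AlgebraicClosure (ULift.{u} ℚ)
  haveI : CharZero (ULift.{u} ℚ) :=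
    charZero_of_injective_ringHom (f := (ULift.ringEquiv.symm : ℚ ≃+* ULift.{u} ℚ).toRingHom) (RingEquiv.injective _)
  haveI : CharZero K := charZero_of_injective_algebraMap (algebraMap (ULift.{u} ℚ) K).injective
  let c : ULift.{u} ℤ →+* K := (Int.castRingHom K).comp ULift.ringEquiv.toRingHom
  have hc : Function.Injective c := (Int.cast_injective).comp ULift.ringEquiv.injective
  apply PowerSeries.map_injective (MvPolynomial.map (σ := ι × ι) c) (MvPolynomial.map_injective c hc)
  rw [map_one]
  ext n : 1
  refine MvPolynomial.funext fun x => ?_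
  let W : Matrix ι ι K := fun i j => x (i, j)
  let ψ : R₀ →+* K := (MvPolynomial.eval x).comp (MvPolynomial.map c)
  have hG : G.map ψ = W := by
    ext i j
    show MvPolynomial.eval x (MvPolynomial.map c (MvPolynomial.X (i, j))) = x (i, j)
    rw [MvPolynomial.map_X, MvPolynomial.eval_X]
  have h1 := congrArg (PowerSeries.coeff n) (hnat ψ G)
  rw [hG, identity_field W] at h1
  rw [PowerSeries.coeff_map, PowerSeries.coeff_one] at h1
  rw [PowerSeries.coeff_map, PowerSeries.coeff_one, apply_ite (MvPolynomial.eval x), map_one, map_zero]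
  exact h1

end Groth.Agent.SymTr12
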