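import Mathlib
import Groth.Prelude.Def_SGA4hB

/-! Traces on symmetric tensors: formula in a basis, and the generating series. -/

set_option autoImplicit false

universe u v

open Polynomial TensorProduct PiTensorProduct Module

namespace Groth.Agent.SymTr12

section Comb

variable {ι : Type*} [Fintype ι] [DecidableEq ι] {n : ℕ}

/-- The multiset of values of a tuple. -/
def sy (f : Fin n → ι) : Sym ι n := ⟨Finset.univ.val.map f, by simp⟩

lemma sy_comp (f : Fin n → ι) (σ : Equiv.Perm (Fin n)) : sy (f ∘ σ) = sy f := by
  apply Subtype.ext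
  show Finset.univ.val.map (f ∘ σ) = Finset.univ.val.map f
  rw [← Multiset.map_map]
  congr 1
  exact congrArg Finset.val (Finset.map_univ_equiv σ)

lemma exists_perm (f g : Fin n → ι) (h : sy f = sy g) : ∃ σ : Equiv.Perm (Fin n), g ∘ σ = f := by
  have hc : ∀ i, Fintype.card {k // f k = i} = Fintype.card {k // g k = i} := fun i => by
    have := congrArg (fun q : Sym ι n => (q : Multiset ι).count i) h
    dsimp only [sy] at this
    rw [Sym.coe_mk, Sym.coe_mk, Multiset.count_map, Multiset.count_map] at this
    rw [Fintype.card_subtype, Fintype.card_subtype, Finset.card_def, Finset.card_def,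
      Finset.filter_val, Finset.filter_val]
    simpa [eq_comm] using this
  exact ⟨Equiv.ofFiberEquiv (fun i => Fintype.equivOfCardEq (hc i)),
    funext fun k => Equiv.ofFiberEquiv_map _ k⟩

lemma sy_surjective : Function.Surjective (sy : (Fin n → ι) → Sym ι n) := fun q => by
  refine ⟨fun k => q.1.toList.get (k.cast (by rw [Multiset.length_toList, q.2])), Subtype.ext ?_⟩
  show (Finset.univ : Finset (Fin n)).val.map _ = q.1
  rw [Fin.univ_val_map]
  conv_rhs => rw [← Multiset.coe_toList q.1]
  congr 1
  refine List.ext_getElem (by simp [Multiset.length_toList]) fun i h1 h2 => ?_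
  simp only [List.getElem_ofFn, List.get_eq_getElem]
  rfl

/-- A chosen tuple with given multiset of values. -/
noncomputable def rep (q : Sym ι n) : Fin n → ι := Function.surjInv sy_surjective q

lemma sy_rep (q : Sym ι n) : sy (rep q) = q := Function.surjInv_eq _ q

/-- The trace of the `n`-th symmetric tensor power of a matrix. -/
noncomputable def T {R : Type*} [CommRing R] (n : ℕ) (U : Matrix ι ι R) : R :=
  ∑ f : Fin n → ι, ∏ k, U (rep (sy f) k) (f k)

lemma T_map {R S : Type*} [CommRing R] [CommRing S] (φ : R →+* S) (U : Matrix ι ι R) :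
    T n (U.map φ) = φ (T n U) := by
  simp [T, map_sum, map_prod, Matrix.map_apply]

/-- The complete homogeneous symmetric function. -/
noncomputable def P {R : Type*} [CommRing R] (n : ℕ) (d : ι → R) : R :=
  ∑ s : Sym ι n, (s.1.map d).prod

lemma T_triangular {R : Type*} [CommRing R] {m : ℕ} (U : Matrix (Fin m) (Fin m) R)
    (hU : ∀ i j, j < i → U i j = 0) : T n U = P n (fun i => U i i) := by
  unfold T P
  rw [← Finset.sum_fiberwise Finset.univ sy]
  refine Finset.sum_congr rfl fun q _ => ?_
  rw [Finset.sum_eq_single (rep q)]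
  · rw [sy_rep, Finset.prod_eq_multiset_prod]
    conv_rhs => rw [← sy_rep q]
    rw [sy, Multiset.map_map]
    rfl
  · intro f hf hne
    rw [Finset.mem_filter] at hf
    by_contra h0
    apply hne
    have hle : ∀ k, rep (sy f) k ≤ f k := fun k => le_of_not_gt fun hlt =>
      h0 (Finset.prod_eq_zero (Finset.mem_univ k) (hU _ _ hlt))
    have hs : ∑ k, (Fin.val (rep (sy f) k)) = ∑ k, (Fin.val (f k)) := by
      obtain ⟨σ, hσ⟩ := exists_perm (rep (sy f)) f (sy_rep _)
      rw [← Equiv.sum_comp σ (fun k => (Fin.val (f k)))]
      exact Finset.sum_congr rfl fun k _ => by rw [← congrFun hσ k]; rfl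
    have := (Finset.sum_eq_sum_iff_of_le (s := Finset.univ)
      (f := fun k => Fin.val (rep (sy f) k)) (g := fun k => Fin.val (f k))
      fun k _ => Fin.le_def.mp (hle k)).mp hs
    funext k
    rw [← hf.2]
    exact (Fin.ext (this k (Finset.mem_univ k))).symm
  · intro h
    exact absurd (by simpa using sy_rep q) h

omit [Fintype ι] [DecidableEq ι] in
lemma P_equiv {R : Type*} [CommRing R] {κ : Type*} [Fintype κ] [DecidableEq κ] [Fintype ι]
    [DecidableEq ι] (e : ι ≃ κ) (d : κ → R) : P n (d ∘ e) = P n d := by
  refine Fintype.sum_equiv (Sym.equivCongr e) _ _ fun s => ?_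
  simp [Sym.equivCongr, Multiset.map_map]

end Comb

/-- The generating series of complete homogeneous symmetric functions. -/
lemma series (R : Type*) [CommRing R] : ∀ (m : ℕ) (d : Fin m → R),
    ((∏ i, (1 - Polynomial.C (d i) * X) : R[X]) : PowerSeries R) *
      PowerSeries.mk (fun n => P n d) = 1 := by
  intro m
  induction m with
  | zero =>
    intro d
    rw [Fin.prod_univ_zero, Polynomial.coe_one, one_mul]
    ext n
    rcases n with - | n
    · simp [P, Sym.eq_nil_of_card_zero]
    · simp [P]
  | succ m ih =>
    intro d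
    let d' : Fin m → R := fun i => d i.succ
    have key : ∀ n, P (n + 1) d = d 0 * P n d + P (n + 1) d' := fun n => by
      let g : Option (Fin m) → R := d ∘ (finSuccEquiv m).symm
      have e1 : ∀ k, P k g = P k d := fun k => P_equiv (finSuccEquiv m).symm d
      rw [← e1, ← e1]
      unfold P
      rw [← (symOptionSuccEquiv (α := Fin m) (n := n)).symm.sum_comp, Fintype.sum_sum_type,
        Finset.mul_sum]
      congr 1
      · refine Finset.sum_congr rfl fun s _ => ?_
        simp [symOptionSuccEquiv, g, Sym.coe_cons]
      · refine Finset.sum_congr rfl fun s _ => ?_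
        simp [symOptionSuccEquiv, g, d', Multiset.map_map, Function.comp_def]
    have h2 : ((1 - Polynomial.C (d 0) * X : R[X]) : PowerSeries R) *
        PowerSeries.mk (fun n => P n d) = PowerSeries.mk (fun n => P n d') := by
      rw [Polynomial.coe_sub, Polynomial.coe_one, Polynomial.coe_mul, Polynomial.coe_C,
        Polynomial.coe_X, sub_mul, one_mul, mul_assoc]
      ext n
      rw [map_sub, PowerSeries.coeff_C_mul, PowerSeries.coeff_mk, PowerSeries.coeff_mk]
      rcases n with - | n
      · simp [P, Sym.eq_nil_of_card_zero]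
      · rw [PowerSeries.coeff_succ_X_mul, PowerSeries.coeff_mk, key n]
        ring
    rw [Fin.prod_univ_succ, Polynomial.coe_mul, mul_comm ((_ : R[X]) : PowerSeries R), mul_assoc, h2]
    exact ih d'

end Groth.Agent.SymTr12
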